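import Mathlib
import Groth.Agent.S4447
import Groth.Agent.DvrDom.Scheme

/-!
# Morphisms universally reflecting specialisations, and the valuative criterion
-/

set_option linter.style.haveILetI false
set_option backward.isDefEq.respectTransparency false
universe u
open CategoryTheory CategoryTheory.Limits AlgebraicGeometry IsLocalRing

namespace Groth.Agent.ReflSpec

/-- A field-valued point of the target of a monomorphism lifts if its image does. -/
theorem exists_fieldPt_lift {P X' : Scheme.{u}} (p : P ⟶ X') [Mono p] (F : Type u) [Field F]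
    (a : Spec (CommRingCat.of F) ⟶ X') (y : P) (ha : a (closedPoint F) = p y) :
    ∃ b : Spec (CommRingCat.of F) ⟶ P, b ≫ p = a := by
  have : Subsingleton ↥(Spec (CommRingCat.of F)) := inferInstanceAs (Subsingleton (PrimeSpectrum F))
  obtain ⟨z, -, -⟩ := Scheme.Pullback.exists_preimage_pullback (f := p) (g := a) y (closedPoint F) ha.symm
  have hsurj : Surjective (pullback.snd p a) := ⟨fun s => ⟨z, Subsingleton.elim _ _⟩⟩
  have : Subsingleton ↥(pullback p a) := (pullback.snd p a).injective.subsingleton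
  have : QuasiCompact (pullback.snd p a) := ⟨fun U _ _ => (Set.toFinite _).isCompact⟩
  have := Flat.isIso_of_surjective_of_mono (pullback.snd p a)
  exact ⟨inv (pullback.snd p a) ≫ pullback.fst p a, by
    rw [Category.assoc, pullback.condition, IsIso.inv_hom_id_assoc]⟩

/-- If the base change of `f` along a valuation ring reflects the specialisation of the two
given points, the valuative square has a lift. -/
theorem hasLift_of_specializes {X Y : Scheme.{u}} (f : Y ⟶ X) (S : ValuativeCommSq f)
    (h : ∀ y₀ y₁ : ↥(pullback f S.i₂),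
      (pullback.snd f S.i₂).base y₁ ⤳ (pullback.snd f S.i₂).base y₀ → y₁ ⤳ y₀)
    (l₀ : Spec (CommRingCat.of (IsLocalRing.ResidueField S.R)) ⟶ Y)
    (hl₀ : l₀ ≫ f = Spec.map (CommRingCat.ofHom (IsLocalRing.residue S.R)) ≫ S.i₂) :
    S.commSq.HasLift := by
  let aK : Spec (CommRingCat.of S.K) ⟶ Spec (CommRingCat.of S.R) :=
    Spec.map (CommRingCat.ofHom (algebraMap S.R S.K))
  let pK : Spec (CommRingCat.of S.K) ⟶ pullback f S.i₂ := pullback.lift S.i₁ aK S.commSq.w
  let p0 : Spec (CommRingCat.of (IsLocalRing.ResidueField S.R)) ⟶ pullback f S.i₂ :=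
    pullback.lift l₀ (Spec.map (CommRingCat.ofHom (IsLocalRing.residue S.R))) hl₀
  let y₁ := pK (closedPoint S.K)
  let y₀ := p0 (closedPoint (IsLocalRing.ResidueField S.R))
  have h0 : pullback.snd f S.i₂ y₀ = closedPoint S.R := by
    show pullback.snd f S.i₂ (p0 (closedPoint _)) = _
    rw [← Scheme.Hom.comp_apply, pullback.lift_snd]
    exact IsLocalRing.comap_closedPoint (IsLocalRing.residue S.R)
  have hsp : y₁ ⤳ y₀ := h y₀ y₁ (by rw [h0]; exact IsLocalRing.specializes_closedPoint _)
  let P := pullback f S.i₂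
  let ψ : P.presheaf.stalk y₀ ⟶ CommRingCat.of S.K :=
    P.presheaf.stalkSpecializes hsp ≫ Scheme.stalkClosedPointTo pK
  have hψ : Spec.map ψ ≫ P.fromSpecStalk y₀ = pK := by
    rw [Spec.map_comp, Category.assoc, Scheme.SpecMap_stalkSpecializes_fromSpecStalk,
      Scheme.Spec_stalkClosedPointTo_fromSpecStalk]
  let χ : CommRingCat.of S.R ⟶ P.presheaf.stalk y₀ :=
    Spec.preimage (P.fromSpecStalk y₀ ≫ pullback.snd f S.i₂)
  have hχ : Spec.map χ = P.fromSpecStalk y₀ ≫ pullback.snd f S.i₂ := Spec.map_preimage _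
  have hχψ : ∀ r, ψ.hom (χ.hom r) = algebraMap S.R S.K r := by
    intro r
    have e : χ ≫ ψ = CommRingCat.ofHom (algebraMap S.R S.K) := by
      apply Spec.map_injective
      rw [Spec.map_comp, hχ, reassoc_of% hψ]
      exact pullback.lift_snd _ _ _
    exact congr($(e).hom r)
  have hloc : Spec.map χ (closedPoint (P.presheaf.stalk y₀)) = closedPoint S.R := by
    rw [hχ, Scheme.Hom.comp_apply, Scheme.fromSpecStalk_closedPoint]
    exact h0
  have hmem : ∀ a : P.presheaf.stalk y₀, ∃ r : S.R, algebraMap S.R S.K r = ψ.hom a := by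
    intro a
    rcases ValuationRing.isInteger_or_isInteger S.R (ψ.hom a) with hi | ⟨r, hr⟩
    · exact hi
    · by_cases hu : IsUnit r
      · obtain ⟨u, rfl⟩ := hu
        refine ⟨((u⁻¹ : S.Rˣ) : S.R), ?_⟩
        have h2 : algebraMap S.R S.K u * algebraMap S.R S.K ((u⁻¹ : S.Rˣ) : S.R) = 1 := by
          rw [← map_mul, Units.mul_inv, map_one]
        rw [hr] at h2
        exact (eq_of_inv_mul_eq_one h2).symm
      · by_cases ha0 : ψ.hom a = 0
        · exact ⟨0, by rw [map_zero, ha0]⟩
        · exfalso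
          have h1 : χ.hom r ∈ maximalIdeal (P.presheaf.stalk y₀) := by
            have h3 : r ∈ (Spec.map χ (closedPoint (P.presheaf.stalk y₀))).asIdeal := by
              rw [hloc]; exact hu
            exact h3
          have h2 : ψ.hom (a * χ.hom r) = 1 := by
            rw [map_mul, hχψ, hr, mul_inv_cancel₀ ha0]
          have h4 : IsUnit (1 - a * χ.hom r) :=
            IsLocalRing.isUnit_one_sub_self_of_mem_nonunits _ (Ideal.mul_mem_left _ a h1)
          exact (h4.map ψ.hom).ne_zero (by rw [map_sub, map_one, h2, sub_self])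
  choose θ₀ hθ₀ using hmem
  let θ : P.presheaf.stalk y₀ →+* S.R :=
    { toFun := θ₀
      map_one' := IsFractionRing.injective S.R S.K (by rw [hθ₀, map_one, map_one])
      map_mul' := fun a b => IsFractionRing.injective S.R S.K
        (by rw [hθ₀, map_mul, map_mul, hθ₀, hθ₀])
      map_zero' := IsFractionRing.injective S.R S.K (by rw [hθ₀, map_zero, map_zero])
      map_add' := fun a b => IsFractionRing.injective S.R S.K
        (by rw [hθ₀, map_add, map_add, hθ₀, hθ₀]) }
  refine ⟨⟨⟨Spec.map (CommRingCat.ofHom θ) ≫ P.fromSpecStalk y₀ ≫ pullback.fst f S.i₂, ?_, ?_⟩⟩⟩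
  · have e : CommRingCat.ofHom θ ≫ CommRingCat.ofHom (algebraMap S.R S.K) = ψ :=
      CommRingCat.hom_ext (RingHom.ext hθ₀)
    rw [← Spec.map_comp_assoc, e, reassoc_of% hψ]
    exact pullback.lift_fst _ _ _
  · have e : χ ≫ CommRingCat.ofHom θ = 𝟙 _ := CommRingCat.hom_ext (RingHom.ext fun r =>
      IsFractionRing.injective S.R S.K ((hθ₀ _).trans (hχψ r)))
    rw [Category.assoc, Category.assoc, pullback.condition, ← Category.assoc (P.fromSpecStalk y₀),
      ← hχ, ← Spec.map_comp_assoc, e, Spec.map_id, Category.id_comp]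

/-- Conversely, lifts against one valuation ring through a specialisation reflect it. -/
theorem specializes_of_lift {X Y X' : Scheme.{u}} (f : Y ⟶ X) [Mono f] (g : X' ⟶ X)
    (y₀ y₁ : ↥(pullback f g)) (R K : Type u) [CommRing R] [IsDomain R] [ValuationRing R]
    [Field K] [Algebra R K] [IsFractionRing R K] (t : Spec (CommRingCat.of R) ⟶ X')
    (h0 : t (closedPoint R) = pullback.snd f g y₀)
    (h1 : (Spec.map (CommRingCat.ofHom (algebraMap R K)) ≫ t) (closedPoint K) = pullback.snd f g y₁)
    (H : ∀ (i₁ : Spec (CommRingCat.of K) ⟶ Y)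
      (w : CommSq i₁ (Spec.map (CommRingCat.ofHom (algebraMap R K))) f (t ≫ g)),
      (∃ l₀ : Spec (CommRingCat.of (IsLocalRing.ResidueField R)) ⟶ Y,
        l₀ ≫ f = Spec.map (CommRingCat.ofHom (IsLocalRing.residue R)) ≫ t ≫ g) → w.HasLift) :
    y₁ ⤳ y₀ := by
  obtain ⟨b₁, hb₁⟩ := exists_fieldPt_lift (pullback.snd f g) K _ y₁ h1
  have h0' : (Spec.map (CommRingCat.ofHom (IsLocalRing.residue R)) ≫ t)
      (closedPoint (IsLocalRing.ResidueField R)) = pullback.snd f g y₀ := by
    rw [← h0, Scheme.Hom.comp_apply]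
    exact congrArg t.base (IsLocalRing.comap_closedPoint (IsLocalRing.residue R))
  obtain ⟨b₀, hb₀⟩ := exists_fieldPt_lift (pullback.snd f g) _ _ y₀ h0'
  have w : CommSq (b₁ ≫ pullback.fst f g) (Spec.map (CommRingCat.ofHom (algebraMap R K))) f
      (t ≫ g) := ⟨by rw [Category.assoc, pullback.condition, reassoc_of% hb₁]⟩
  obtain ⟨⟨l⟩⟩ := H _ w ⟨b₀ ≫ pullback.fst f g, by
    rw [Category.assoc, pullback.condition, reassoc_of% hb₀]⟩
  let m := pullback.lift l.l t l.fac_right
  have hm : m ≫ pullback.snd f g = t := pullback.lift_snd _ _ _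
  have hinj := (pullback.snd f g).injective
  have e0 : m (closedPoint R) = y₀ := hinj (by rw [← Scheme.Hom.comp_apply, hm, h0])
  have e1 : m (Spec.map (CommRingCat.ofHom (algebraMap R K)) (closedPoint K)) = y₁ := hinj (by
    rw [← Scheme.Hom.comp_apply, hm, ← Scheme.Hom.comp_apply, h1])
  rw [← e0, ← e1]
  exact (IsLocalRing.specializes_closedPoint _).map m.continuous

/-- Monomorphisms with all valuative lifts reflect specialisations universally. -/
theorem specializes_of_valuative {X Y : Scheme.{u}} (f : Y ⟶ X) [Mono f]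
    (H : ∀ S : ValuativeCommSq f, (∃ l₀ : Spec (CommRingCat.of (IsLocalRing.ResidueField S.R)) ⟶ Y,
      l₀ ≫ f = Spec.map (CommRingCat.ofHom (IsLocalRing.residue S.R)) ≫ S.i₂) → S.commSq.HasLift)
    {X' : Scheme.{u}} (g : X' ⟶ X) (y₀ y₁ : ↥(pullback f g))
    (hsp : pullback.snd f g y₁ ⤳ pullback.snd f g y₀) : y₁ ⤳ y₀ := by
  rcases eq_or_ne (pullback.snd f g y₀) (pullback.snd f g y₁) with he | hne
  · exact specializes_of_eq ((pullback.snd f g).injective he.symm)
  · obtain ⟨A, t, -, h0, h1⟩ := S4447.result (𝟙 X') (pullback.snd f g y₁) (pullback.snd f g y₀) hsp hne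
    refine specializes_of_lift f g y₀ y₁ A (X'.residueField (pullback.snd f g y₁)) t h0 ?_ fun i₁ w hl =>
      H { R := A, K := X'.residueField (pullback.snd f g y₁), i₁ := i₁, i₂ := t ≫ g, commSq := w } hl
    rw [show (algebraMap A (X'.residueField (pullback.snd f g y₁))) = A.subtype from rfl, h1,
      Category.comp_id]
    exact Scheme.fromSpecResidueField_apply _ _

/-- The discrete variant over a locally Noetherian scheme. -/
theorem specializes_of_dvr {X Y : Scheme.{u}} (f : Y ⟶ X) [Mono f]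
    (H : ∀ S : ValuativeCommSq f, IsDiscreteValuationRing S.R →
      (∃ l₀ : Spec (CommRingCat.of (IsLocalRing.ResidueField S.R)) ⟶ Y,
      l₀ ≫ f = Spec.map (CommRingCat.ofHom (IsLocalRing.residue S.R)) ≫ S.i₂) → S.commSq.HasLift)
    {X' : Scheme.{u}} [IsLocallyNoetherian X'] (g : X' ⟶ X) (y₀ y₁ : ↥(pullback f g))
    (hsp : pullback.snd f g y₁ ⤳ pullback.snd f g y₀) : y₁ ⤳ y₀ := by
  rcases eq_or_ne (pullback.snd f g y₀) (pullback.snd f g y₁) with he | hne
  · exact specializes_of_eq ((pullback.snd f g).injective he.symm)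
  · obtain ⟨A, t, hA, h0, h1⟩ :=
      DvrDom.exists_dvr_through (𝟙 X') (pullback.snd f g y₁) (pullback.snd f g y₀) hsp hne
    refine specializes_of_lift f g y₀ y₁ A (X'.residueField (pullback.snd f g y₁)) t h0 ?_ fun i₁ w hl =>
      H { R := A, K := X'.residueField (pullback.snd f g y₁), i₁ := i₁, i₂ := t ≫ g, commSq := w } hA hl
    rw [show (algebraMap A (X'.residueField (pullback.snd f g y₁))) = A.subtype from rfl, h1,
      Category.comp_id]
    exact Scheme.fromSpecResidueField_apply _ _

end Groth.Agent.ReflSpec
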