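import Mathlib
import Groth.Agent.ReflSpec.Basic
import Groth.Agent.DvrDom.Composite
import Groth.Agent.ValComp.Basic
import Groth.Agent.NoethSober.Basic

/-!
# Monomorphisms reflecting specialisations universally are immersions
-/

set_option linter.style.haveILetI false
set_option backward.isDefEq.respectTransparency false
universe u
open CategoryTheory CategoryTheory.Limits AlgebraicGeometry IsLocalRing

namespace Groth.Agent.ReflSpec

/-- A field-valued point and a specialisation of its image extend over a valuation ring. -/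
theorem exists_valuation_extension {X : Scheme.{u}} {L : Type u} [Field L]
    (v : Spec (CommRingCat.of L) ⟶ X) (s : X) (hs : v (closedPoint L) ⤳ s) :
    ∃ (V' : ValuationSubring L) (t : Spec (CommRingCat.of V') ⟶ X),
      t (closedPoint V') = s ∧ Spec.map (CommRingCat.ofHom V'.subtype) ≫ t = v := by
  let φ : X.presheaf.stalk s ⟶ CommRingCat.of L :=
    X.presheaf.stalkSpecializes hs ≫ Scheme.stalkClosedPointTo v
  obtain ⟨A, hA, hA_local⟩ := IsLocalRing.exists_factor_valuationRing φ.hom
  refine ⟨A, Spec.map (CommRingCat.ofHom (φ.hom.codRestrict _ hA)) ≫ X.fromSpecStalk s, ?_, ?_⟩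
  · have : Spec.map (CommRingCat.ofHom (φ.hom.codRestrict _ hA)) (closedPoint A) =
        closedPoint (X.presheaf.stalk s) :=
      IsLocalRing.comap_closedPoint (S := A) (φ.hom.codRestrict A.toSubring hA)
    exact ((Scheme.Hom.comp_apply _ _ _).trans (congrArg _ this)).trans X.fromSpecStalk_closedPoint
  · rw [← Spec.map_comp_assoc]
    show Spec.map φ ≫ _ = v
    rw [Spec.map_comp, Category.assoc, Scheme.SpecMap_stalkSpecializes_fromSpecStalk,
      Scheme.Spec_stalkClosedPointTo_fromSpecStalk]

variable {X Y : Scheme.{u}} (f : Y ⟶ X) [Mono f]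

theorem exists_lift_valuationSubring
    (H : ∀ (X' : Scheme.{u}) (g : X' ⟶ X) (y₀ y₁ : ↥(pullback f g)),
      pullback.snd f g y₁ ⤳ pullback.snd f g y₀ → y₁ ⤳ y₀)
    {K : Type u} [Field K] (C : ValuationSubring K) (h : Spec (CommRingCat.of C) ⟶ X)
    (b₁ : Spec (CommRingCat.of K) ⟶ Y)
    (hb₁ : b₁ ≫ f = Spec.map (CommRingCat.ofHom C.subtype) ≫ h)
    (b₀ : Spec (CommRingCat.of (ResidueField C)) ⟶ Y)
    (hb₀ : b₀ ≫ f = Spec.map (CommRingCat.ofHom (residue C)) ≫ h) :
    ∃ l : Spec (CommRingCat.of C) ⟶ Y, l ≫ f = h := by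
  obtain ⟨⟨l⟩⟩ := hasLift_of_specializes f
    { R := C, K := K, i₁ := b₁, i₂ := h, commSq := ⟨hb₁⟩ } (H _ h) b₀ hb₀
  exact ⟨l.l, l.fac_right⟩

set_option maxHeartbeats 1000000 in
/-- Under universal reflection of specialisations the image is convex. -/
theorem mem_range_of_specializes
    (H : ∀ (X' : Scheme.{u}) (g : X' ⟶ X) (y₀ y₁ : ↥(pullback f g)),
      pullback.snd f g y₁ ⤳ pullback.snd f g y₀ → y₁ ⤳ y₀)
    {η x' s : X} (h1 : η ⤳ x') (h2 : x' ⤳ s) (hη : η ∈ Set.range f) (hs : s ∈ Set.range f) :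
    x' ∈ Set.range f := by
  obtain ⟨V, g, hgc, hgη⟩ := exists_valuation_extension (X.fromSpecResidueField η) x'
    (show (X.fromSpecResidueField η) _ ⤳ x' from (Scheme.fromSpecResidueField_apply η _).symm ▸ h1)
  let v : Spec (CommRingCat.of (ResidueField V)) ⟶ X :=
    Spec.map (CommRingCat.ofHom (residue V)) ≫ g
  have hv : v (closedPoint (ResidueField V)) = x' := by
    rw [← hgc]
    exact congrArg g.base (IsLocalRing.comap_closedPoint (residue V))
  obtain ⟨V', t, htc, htv⟩ := exists_valuation_extension v s (hv.symm ▸ h2)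
  obtain ⟨h, hh1, hh2⟩ := ValComp.exists_glue V V' g t htv
  have hC : Spec.map (CommRingCat.ofHom (DvrDom.composite V V').subtype) ≫ h =
      X.fromSpecResidueField η := by
    rw [← hgη, ← hh1, ← Spec.map_comp_assoc]
    rfl
  have hc0 : h (closedPoint (DvrDom.composite V V')) = s := by
    rw [← htc, ← hh2]
    exact (congrArg h.base (IsLocalRing.comap_closedPoint (DvrDom.compositeRes V V'))).symm
  obtain ⟨y₁, rfl⟩ := hη
  obtain ⟨y₀, rfl⟩ := hs
  obtain ⟨b₁, hb₁⟩ := exists_fieldPt_lift f _ (X.fromSpecResidueField (f y₁)) y₁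
    (Scheme.fromSpecResidueField_apply _ _)
  obtain ⟨b₀, hb₀⟩ := exists_fieldPt_lift f _
    (Spec.map (CommRingCat.ofHom (residue (DvrDom.composite V V'))) ≫ h) y₀ (by
      rw [← hc0]
      exact congrArg h.base (IsLocalRing.comap_closedPoint (residue (DvrDom.composite V V'))))
  obtain ⟨l, hl⟩ := exists_lift_valuationSubring f H (DvrDom.composite V V') h b₁
    (hb₁.trans hC.symm) b₀ hb₀
  refine ⟨l (Spec.map (CommRingCat.ofHom (ValComp.incl V V')) (closedPoint V)), ?_⟩
  rw [← Scheme.Hom.comp_apply, hl, ← Scheme.Hom.comp_apply, hh1, hgc]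

/-- In a noetherian sober space a point in the closure of a constructible set is a
specialisation of a point of it. -/
theorem exists_specializes_of_mem_closure {T : Type u} [TopologicalSpace T]
    [TopologicalSpace.NoetherianSpace T] [QuasiSober T] {C : Set T}
    (hC : Topology.IsConstructible C) {x : T} (hx : x ∈ closure C) : ∃ η ∈ C, η ⤳ x := by
  suffices h : closure (C ∩ Set.univ) ⊆ {x | ∃ η ∈ C, η ⤳ x} by
    rw [Set.inter_univ] at h; exact h hx
  refine NoethSober.induction_generic (P := fun Z => closure (C ∩ Z) ⊆ {x | ∃ η ∈ C, η ⤳ x})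
    (by simp) (fun Z W h₁ h₂ => by
      rw [Set.inter_union_distrib_left, closure_union]
      exact Set.union_subset h₁ h₂) (fun η ih => ?_) _ isClosed_univ
  obtain ⟨U, hU, hηU, ⟨hη, -⟩ | ⟨-, hUC⟩⟩ := NoethSober.exists_open_inter_closure_singleton hC η
  · intro z hz
    exact ⟨η, hη, specializes_iff_mem_closure.2 (closure_minimal Set.inter_subset_right isClosed_closure hz)⟩
  · refine Set.Subset.trans (closure_mono ?_) (ih (closure {η} \ U) (isClosed_closure.sdiff hU)
      Set.sdiff_subset fun hn => hn.2 hηU)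
    exact fun z hz => ⟨hz.1, hz.2, fun hzU => hUC ⟨hzU, hz.2⟩ hz.1⟩

theorem isImmersion_of_reflects [IsLocallyNoetherian X] [LocallyOfFinitePresentation f]
    [QuasiCompact f]
    (H : ∀ (X' : Scheme.{u}) (g : X' ⟶ X) (y₀ y₁ : ↥(pullback f g)),
      pullback.snd f g y₁ ⤳ pullback.snd f g y₀ → y₁ ⤳ y₀) : IsImmersion f := by
  have hclosed : IsClosed (closure (Set.range f) \ Set.range f) := by
    rw [X.affineCover.isOpenCover_opensRange.isClosed_iff_coe_preimage]
    intro i
    let U : X.Opens := (X.affineCover.f i).opensRange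
    show IsClosed (U.ι ⁻¹' (closure (Set.range f) \ Set.range f))
    have hU : IsAffineOpen U := isAffineOpen_opensRange _
    have : IsAffine U := hU
    have : IsNoetherianRing Γ(X, U) := IsLocallyNoetherian.component_noetherian ⟨U, hU⟩
    have : IsNoetherian (U : Scheme.{u}) :=
      { toIsLocallyNoetherian := inferInstance, toCompactSpace := isCompact_iff_compactSpace.mp hU.isCompact }
    have hc : Topology.IsConstructible (U.ι ⁻¹' Set.range f) := by
      have := (f ∣_ U).isConstructible_image (s := Set.univ)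
        Topology.IsConstructible.univ
      rwa [Set.image_univ, show Set.range (f ∣_ U) = U.ι ⁻¹' Set.range f from ?_] at this
      ext x
      constructor
      · rintro ⟨y, rfl⟩
        exact ⟨(f ⁻¹ᵁ U).ι y, by rw [← Scheme.Hom.comp_apply, ← morphismRestrict_ι]; rfl⟩
      · rintro ⟨y, hy⟩
        have hyU : y ∈ f ⁻¹ᵁ U := by
          show f y ∈ U
          rw [hy]
          exact x.2
        refine ⟨⟨y, hyU⟩, U.ι.isOpenEmbedding.injective ?_⟩
        rw [← Scheme.Hom.comp_apply, morphismRestrict_ι]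
        exact hy
    have hcl : U.ι ⁻¹' closure (Set.range f) = closure (U.ι ⁻¹' Set.range f) :=
      U.ι.isOpenEmbedding.isOpenMap.preimage_closure_eq_closure_preimage U.ι.continuous _
    have hcl' : Topology.IsConstructible (closure (U.ι ⁻¹' Set.range f)) := by
      have hretro : IsRetrocompact (closure (U.ι ⁻¹' Set.range f))ᶜ :=
        fun _ _ _ => TopologicalSpace.NoetherianSpace.isCompact _
      simpa using (hretro.isConstructible isClosed_closure.isOpen_compl).compl
    rw [Set.preimage_sdiff, hcl]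
    refine NoethSober.isClosed_of_stableUnderSpecialization (hcl'.sdiff hc) fun a b hab ha => ?_
    refine ⟨isClosed_closure.stableUnderSpecialization hab ha.1, fun hb => ha.2 ?_⟩
    obtain ⟨η, hη, hηa⟩ := exists_specializes_of_mem_closure hc ha.1
    exact mem_range_of_specializes f H (hηa.map U.ι.continuous) (hab.map U.ι.continuous) hη hb
  let W : X.Opens := ⟨_, hclosed.isOpen_compl⟩
  have hsub : Set.range f ⊆ Set.range W.ι := by
    rw [Scheme.Opens.range_ι]
    exact fun x hx hn => hn.2 hx
  let f' : Y ⟶ (W : Scheme.{u}) := IsOpenImmersion.lift W.ι f hsub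
  have hf' : f' ≫ W.ι = f := IsOpenImmersion.lift_fac _ _ _
  haveI : Mono f' := mono_of_mono_fac hf'
  haveI : QuasiCompact f' := by
    haveI : QuasiCompact (f' ≫ W.ι) := hf'.symm ▸ inferInstance
    exact QuasiCompact.of_comp f' W.ι
  haveI : LocallyOfFiniteType f' := by
    haveI : LocallyOfFiniteType (f' ≫ W.ι) := hf'.symm ▸ inferInstance
    exact locallyOfFiniteType_of_comp f' W.ι
  haveI : IsProper f' := by
    refine IsProper.of_valuativeCriterion f' ?_
    rw [ValuativeCriterion.iff]
    refine ⟨fun S => ?_, fun S => ⟨fun l l' => ?_⟩⟩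
    swap
    · ext
      exact (cancel_mono f').1 (l.fac_right.trans l'.fac_right.symm)
    let h := S.i₂ ≫ W.ι
    have hsp : f (S.i₁ (closedPoint S.K)) ⤳ h (closedPoint S.R) := by
      have e : S.i₁ ≫ f = Spec.map (CommRingCat.ofHom (algebraMap S.R S.K)) ≫ h := by
        rw [← hf', reassoc_of% S.commSq.w]
      rw [← Scheme.Hom.comp_apply, e, Scheme.Hom.comp_apply]
      exact (specializes_closedPoint _).map h.continuous
    have hmem : h (closedPoint S.R) ∈ Set.range f := by
      by_contra hn
      have hW : h (closedPoint S.R) ∈ (W : Set X) := (S.i₂ (closedPoint S.R)).2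
      exact hW ⟨isClosed_closure.stableUnderSpecialization hsp (subset_closure ⟨_, rfl⟩), hn⟩
    obtain ⟨y₀, hy₀⟩ := hmem
    obtain ⟨b₀, hb₀⟩ := exists_fieldPt_lift f _
      (Spec.map (CommRingCat.ofHom (residue S.R)) ≫ h) y₀ (by
        rw [hy₀]
        exact congrArg h.base (IsLocalRing.comap_closedPoint (residue S.R)))
    let S' : ValuativeCommSq f :=
      { R := S.R, K := S.K, i₁ := S.i₁, i₂ := h,
        commSq := ⟨by rw [← hf', reassoc_of% S.commSq.w]⟩ }
    obtain ⟨⟨l⟩⟩ := hasLift_of_specializes f S' (H _ h) b₀ hb₀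
    refine ⟨⟨⟨l.l, l.fac_left, (cancel_mono W.ι).1 ?_⟩⟩⟩
    rw [Category.assoc, hf']
    exact l.fac_right
  haveI : LocallyQuasiFinite f' := LocallyQuasiFinite.of_injective f'.injective
  haveI : IsClosedImmersion f' := (IsClosedImmersion.iff_isFinite_and_mono f').2
    ⟨IsFinite.of_isProper_of_locallyQuasiFinite f', inferInstance⟩
  rw [← hf']
  infer_instance

end Groth.Agent.ReflSpec
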